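import Groth.Agent.ModEtQCoh.Generators
import Mathlib.RingTheory.Smooth.IntegralClosure
import Mathlib.RingTheory.RingHom.Etale

/-!
# Integral elements and base change of algebras given by semilinear maps
-/

set_option autoImplicit false
set_option backward.isDefEq.respectTransparency.types false
set_option linter.style.haveILetI false
universe v u

open TensorProduct Groth.ModEtQCoh

namespace Groth.ModEtQCoh.IntClosure

/-- Data: an algebra `A` over `R`, `A'` over `B` and a base change map between their module incarnations. -/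
structure BCData {R B : Type u} [CommRing R] [CommRing B] (ρ : R →+* B) {A A' : Type v} [CommRing A] [CommRing A']
    (ψ : R →+* A) (ψ' : B →+* A') (r : A →+* A') {N N' : Type v} [AddCommGroup N] [AddCommGroup N'] [Module R N]
    [Module B N'] (σ : N →ₛₗ[ρ] N') where
  eN : N ≃+ A
  eN' : N' ≃+ A'
  smul : ∀ c n, eN (c • n) = ψ c * eN n
  smul' : ∀ c n, eN' (c • n) = ψ' c * eN' n
  compat : ∀ n, eN' (σ n) = r (eN n)
  comm : ∀ c, r (ψ c) = ψ' (ρ c)
  bc : IsBC σ

variable {R B : Type u} [CommRing R] [CommRing B] {ρ : R →+* B} {A A' : Type v} [CommRing A] [CommRing A']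
    {ψ : R →+* A} {ψ' : B →+* A'} {r : A →+* A'} {N N' : Type v} [AddCommGroup N] [AddCommGroup N'] [Module R N]
    [Module B N'] {σ : N →ₛₗ[ρ] N'}

/-- The algebra map of the base change is bijective. -/
theorem BCData.exists_algHom (d : BCData ρ ψ ψ' r σ) :
    letI := ρ.toAlgebra; letI := ψ.toAlgebra; letI := ψ'.toAlgebra
    ∃ Φ : B ⊗[R] A →ₐ[B] A', Function.Bijective Φ ∧ ∀ b a, Φ (b ⊗ₜ a) = ψ' b * r a := by
  letI := ρ.toAlgebra
  letI := ψ.toAlgebra
  letI := ψ'.toAlgebra
  letI : Algebra R A' := (ψ'.comp ρ).toAlgebra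
  haveI : IsScalarTower R B A' := IsScalarTower.of_algebraMap_eq fun _ => rfl
  let r' : A →ₐ[R] A' := { r with commutes' := fun c => d.comm c }
  let Φ : B ⊗[R] A →ₐ[B] A' :=
    Algebra.TensorProduct.lift (Algebra.ofId B A') r' fun _ _ => Commute.all _ _
  have hΦ : ∀ b a, Φ (b ⊗ₜ a) = ψ' b * r a := fun b a => Algebra.TensorProduct.lift_tmul _ _ _ _ _
  let e : A ≃ₗ[R] N :=
    ({ d.eN with map_smul' := fun c n => d.smul c n } : N ≃ₗ[R] A).symm
  have he : ∀ a, d.eN (e a) = a := fun a => d.eN.apply_symm_apply a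
  have key : ∀ z : B ⊗[R] A, Φ z = d.eN' (bcLift σ (LinearEquiv.lTensor B e z)) := by
    intro z
    induction z using TensorProduct.induction_on with
    | zero => simp
    | tmul b a =>
      rw [hΦ, LinearEquiv.lTensor_tmul]
      refine Eq.trans ?_ (congrArg d.eN' (bcLift_tmul σ b (e a))).symm
      rw [d.smul', d.compat, he]
    | add x y hx hy => simp [hx, hy]
  refine ⟨Φ, ?_, hΦ⟩
  have : (Φ : B ⊗[R] A → A') = d.eN' ∘ bcLift σ ∘ LinearEquiv.lTensor B e := funext key
  rw [this]
  exact d.eN'.bijective.comp (d.bc.comp (LinearEquiv.lTensor B e).bijective)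

/-- Over a smooth base change, integral elements are generated by integral elements. -/
theorem BCData.mem_span_of_isIntegralElem (d : BCData ρ ψ ψ' r σ) (hρ : ρ.Etale) (y : N')
    (hy : ψ'.IsIntegralElem (d.eN' y)) :
    y ∈ Submodule.span B (σ '' {n | ψ.IsIntegralElem (d.eN n)}) := by
  letI := ρ.toAlgebra
  letI := ψ.toAlgebra
  letI := ψ'.toAlgebra
  haveI : Algebra.Etale R B := hρ
  obtain ⟨Φ, hΦb, hΦ⟩ := d.exists_algHom
  obtain ⟨w, hw⟩ := hΦb.2 (d.eN' y)
  have hwi : IsIntegral B w := (isIntegral_algHom_iff Φ hΦb.1).1 (by rw [hw]; exact hy)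
  obtain ⟨z, hz⟩ := (TensorProduct.toIntegralClosure_bijective_of_smooth (R := R) (S := B) (B := A)).2 ⟨w, hwi⟩
  have hz' := congrArg Subtype.val hz
  obtain rfl : y = d.eN'.symm (Φ w) := by rw [hw, AddEquiv.symm_apply_apply]
  rw [← (show _ = w from hz')]
  clear hz hz' hw hy hwi
  induction z using TensorProduct.induction_on with
  | zero => simp
  | tmul b a =>
    have : (↑(TensorProduct.toIntegralClosure R B A (b ⊗ₜ a)) : B ⊗[R] A) = b ⊗ₜ[R] (a : A) := rfl
    rw [this, hΦ]
    have h2 : d.eN'.symm (ψ' b * r a) = b • σ (d.eN.symm a) := by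
      apply d.eN'.injective
      rw [d.smul', d.compat, AddEquiv.apply_symm_apply, AddEquiv.apply_symm_apply]
    rw [h2]
    refine Submodule.smul_mem _ _ (Submodule.subset_span ⟨_, ?_, rfl⟩)
    show ψ.IsIntegralElem (d.eN (d.eN.symm a))
    rw [AddEquiv.apply_symm_apply]
    exact a.2
  | add x y hx hy =>
    rw [map_add]
    have : (↑(TensorProduct.toIntegralClosure R B A x + TensorProduct.toIntegralClosure R B A y) : B ⊗[R] A) =
      ↑(TensorProduct.toIntegralClosure R B A x) + ↑(TensorProduct.toIntegralClosure R B A y) := rfl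
    rw [this, map_add, map_add]
    exact add_mem hx hy

/-- For flat base change, the subalgebra generated by an element which becomes integral becomes finite. -/
theorem BCData.finite_tensor_adjoin (d : BCData ρ ψ ψ' r σ) (hρ : ρ.Flat) (a : A)
    (ha : ψ'.IsIntegralElem (r a)) :
    letI := ρ.toAlgebra; letI := ψ.toAlgebra
    Module.Finite B (B ⊗[R] Algebra.adjoin R {a}) := by
  letI := ρ.toAlgebra
  letI := ψ.toAlgebra
  letI := ψ'.toAlgebra
  haveI : Module.Flat R B := hρ
  obtain ⟨Φ, hΦb, hΦ⟩ := d.exists_algHom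
  let P : Subalgebra R A := Algebra.adjoin R {a}
  let j : B ⊗[R] P →ₐ[B] A' := Φ.comp (Algebra.TensorProduct.map (AlgHom.id B B) P.val)
  have hj : Function.Injective j :=
    hΦb.1.comp (Module.Flat.lTensor_preserves_injective_linearMap (M := B) P.val.toLinearMap Subtype.val_injective)
  have hjt : ∀ b (p : P), j (b ⊗ₜ p) = ψ' b * r p := fun b p => hΦ b p
  have hrange : j.range = Algebra.adjoin B {r a} := by
    refine le_antisymm ?_ (Algebra.adjoin_le ?_)
    · rintro _ ⟨z, rfl⟩
      induction z using TensorProduct.induction_on with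
      | zero => simp
      | tmul b p =>
        show j (b ⊗ₜ p) ∈ _
        rw [hjt]
        refine mul_mem (Subalgebra.algebraMap_mem _ b) ?_
        obtain ⟨p, hp⟩ := p
        induction hp using Algebra.adjoin_induction with
        | mem x hx => exact Algebra.subset_adjoin (congrArg r (Set.mem_singleton_iff.1 hx))
        | algebraMap c => exact (d.comm c).symm ▸ Subalgebra.algebraMap_mem _ (ρ c)
        | add x y _ _ hx hy => rw [map_add]; exact add_mem hx hy
        | mul x y _ _ hx hy => rw [map_mul]; exact mul_mem hx hy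
      | add x y hx hy => rw [map_add]; exact add_mem hx hy
    · rintro _ rfl
      exact ⟨1 ⊗ₜ ⟨a, Algebra.subset_adjoin rfl⟩, (hjt 1 _).trans (by rw [map_one, one_mul])⟩
  haveI : Module.Finite B (Algebra.adjoin B {r a}) :=
    Module.Finite.iff_fg.2 (IsIntegral.fg_adjoin_singleton (show IsIntegral B (r a) from ha))
  exact Module.Finite.equiv ((AlgEquiv.ofInjective j hj).trans (Subalgebra.equivOfEq _ _ hrange)).symm.toLinearEquiv

/-- Integrality descends along a finite flat covering family. -/
theorem isIntegralElem_of_cover {R : Type u} [CommRing R] {A : Type (u + 1)} [CommRing A] (ψ : R →+* A) (a : A)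
    {K : Type} [Finite K] {B : K → Type u} [∀ k, CommRing (B k)] (ρ : ∀ k, R →+* B k)
    (hcov : ∀ m : Ideal R, m.IsMaximal → ∃ k, ∃ q : Ideal (B k), q.IsPrime ∧ q.comap (ρ k) = m)
    (hflat : ∀ k, (ρ k).Flat)
    (h : ∀ k, letI := (ρ k).toAlgebra; letI := ψ.toAlgebra; Module.Finite (B k) (B k ⊗[R] Algebra.adjoin R {a})) :
    ψ.IsIntegralElem a := by
  letI := fun k => (ρ k).toAlgebra
  letI := ψ.toAlgebra
  haveI : ∀ k, Module.Flat R (B k) := hflat
  have hfin : Module.Finite R (Algebra.adjoin R {a}) := finite_of_forall_finite_tensor hcov h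
  exact IsIntegral.of_mem_of_fg (Algebra.adjoin R {a}) (Module.Finite.iff_fg.1 hfin) a (Algebra.subset_adjoin rfl)

end Groth.ModEtQCoh.IntClosure
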