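import Groth.Agent.ModEtQCoh.IntClosure.Alg
import Groth.Agent.ModEtQCoh.SubFromAffine
import Groth.Agent.ModEtQCoh.PushQCoh
import Groth.Agent.ModEtQCoh.Charts

/-!
# Integral closure of a quasi-coherent algebra
-/

set_option autoImplicit false
set_option backward.isDefEq.respectTransparency.types false
set_option linter.style.haveILetI false
set_option maxHeartbeats 1600000
universe u

open CategoryTheory CategoryTheory.Limits AlgebraicGeometry Opposite AlgSp TensorProduct

namespace Groth.ModEtQCoh.IntClosure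

noncomputable section

variable {S : Scheme.{u}} {X : Sp S} (A : EtSh X CommRingCat.{u + 1}) (φ : OEt X ⟶ A)

/-- An algebra as a module. -/
abbrev modOf : ModEt X :=
  (SheafOfModules.restrictScalars
      ((sheafCompose (etTop X) (forget₂ CommRingCat.{u + 1} RingCat.{u + 1})).map φ)).obj
    (SheafOfModules.unit ((sheafCompose (etTop X) (forget₂ CommRingCat.{u + 1} RingCat.{u + 1})).obj A))

/-- The structure map on an object. -/
def str (E : EtOver X) : fnA E →+* A.obj.obj (op E) :=
  (φ.hom.app (op E)).hom.comp (ULift.ringEquiv.{u, u + 1} (R := fnA E)).symm.toRingHom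

theorem str_res {E E' : EtOver X} (g : E' ⟶ E) (c : fnA E) :
    (A.obj.map g.op).hom (str A φ E c) = str A φ E' (resA g c) :=
  (congrArg (fun k => k.hom (ULift.up c)) (φ.hom.naturality g.op)).symm

/-- Sections of the module are the sections of the algebra. -/
def secEquiv (E : EtOver X) : sectModEt (modOf A φ) E ≃+ A.obj.obj (op E) where
  toFun s := s
  invFun s := s
  left_inv _ := rfl
  right_inv _ := rfl
  map_add' _ _ := rfl

theorem secEquiv_smul (E : EtOver X) (c : fnA E) (s : sectModEt (modOf A φ) E) :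
    secEquiv A φ E (c • s) = str A φ E c * secEquiv A φ E s := rfl

theorem secEquiv_resM {E E' : EtOver X} (g : E' ⟶ E) (s : sectModEt (modOf A φ) E) :
    secEquiv A φ E' (resM (modOf A φ) g s) = (A.obj.map g.op).hom (secEquiv A φ E s) := rfl

/-- Integral elements. -/
def IntE (E : EtOver X) (x : A.obj.obj (op E)) : Prop := (str A φ E).IsIntegralElem x

theorem IntE.res {E E' : EtOver X} (g : E' ⟶ E) {x : A.obj.obj (op E)} (h : IntE A φ E x) :
    IntE A φ E' ((A.obj.map g.op).hom x) := by
  obtain ⟨p, hp, hx⟩ := h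
  refine ⟨p.map (resA g), hp.map _, ?_⟩
  rw [Polynomial.eval₂_map, show (str A φ E').comp (resA g) = (A.obj.map g.op).hom.comp (str A φ E) from
    RingHom.ext fun c => (str_res A φ g c).symm, ← Polynomial.hom_eval₂, hx, map_zero]

/-- The family of integral elements. -/
def fam (E : EtOver X) (_ : IsAffine E.obj.left.left) : Submodule (fnA E) (sectModEt (modOf A φ) E) where
  carrier := {s | IntE A φ E (secEquiv A φ E s)}
  add_mem' := fun {a b} ha hb => by
    show IntE A φ E _
    rw [map_add]
    exact RingHom.IsIntegralElem.add _ ha hb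
  zero_mem' := by
    show IntE A φ E _
    rw [map_zero]
    exact RingHom.isIntegralElem_zero _
  smul_mem' := fun c s hs => by
    show IntE A φ E _
    rw [secEquiv_smul]
    exact RingHom.IsIntegralElem.mul _ (RingHom.isIntegralElem_map _) hs

variable [(modOf A φ).IsQuasicoherent]

/-- Base change data. -/
def bcData {E E' : EtOver X} [IsAffine E.obj.left.left] [IsAffine E'.obj.left.left] (g : E' ⟶ E) :
    BCData (resA g) (str A φ E) (str A φ E') (A.obj.map g.op).hom (resM (modOf A φ) g) where
  eN := secEquiv A φ E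
  eN' := secEquiv A φ E'
  smul := secEquiv_smul A φ E
  smul' := secEquiv_smul A φ E'
  compat := secEquiv_resM A φ g
  comm := str_res A φ g
  bc := isBC_resM _ g

theorem isLocalFamily_fam : SubFromAffine.IsLocalFamily (modOf A φ) (fam A φ) where
  res g hE hE' s hs := by
    show IntE A φ _ _
    rw [secEquiv_resM]
    exact IntE.res A φ g hs
  loc E hE n Y g hY hcov s hs := by
    haveI : ∀ i, IsAffine (Y i).obj.left.left := hY
    refine isIntegralElem_of_cover (str A φ E) (secEquiv A φ E s) (fun k => resA (g k))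
      (fun m hm => exists_prime_over hcov m) (fun k => flat_resA (g k)) fun k => ?_
    refine (bcData A φ (g k)).finite_tensor_adjoin (flat_resA (g k)) (secEquiv A φ E s) ?_
    have h := hs k
    exact h

theorem bc_fam {E E' : EtOver X} (g : E' ⟶ E) (hE : IsAffine E.obj.left.left) (hE' : IsAffine E'.obj.left.left)
    (y : sectModEt (modOf A φ) E') (hy : y ∈ fam A φ E' hE') :
    ∃ z, bcLift (SubFromAffine.resFam (M := modOf A φ) (N := fam A φ) hE g) z = y := by
  have h := (bcData A φ g).mem_span_of_isIntegralElem (etale_resA g) y hy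
  clear hy
  letI := (resA g).toAlgebra
  induction h using Submodule.span_induction with
  | mem x hx =>
    obtain ⟨n, hn, rfl⟩ := hx
    refine ⟨(1 : fnA E') ⊗ₜ[fnA E] (⟨n, hn⟩ : fam A φ E hE), ?_⟩
    exact (bcLift_tmul _ _ _).trans (one_smul _ _)
  | zero => exact ⟨0, map_zero _⟩
  | add x x' _ _ ih ih' =>
    obtain ⟨z, rfl⟩ := ih
    obtain ⟨z', rfl⟩ := ih'
    exact ⟨z + z', map_add _ _ _⟩
  | smul c x hx ih =>
    obtain ⟨z, rfl⟩ := ih
    clear hx
    refine ⟨c • z, ?_⟩
    induction z using TensorProduct.induction_on with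
    | zero => rw [smul_zero, map_zero, smul_zero]
    | tmul b m =>
      rw [TensorProduct.smul_tmul', bcLift_tmul, bcLift_tmul, smul_eq_mul, mul_smul]
    | add w w' h h' =>
      erw [smul_add, map_add, map_add, h, h', smul_add]

/-- The subring presheaf. -/
def subRing (Z : (EtOver X)ᵒᵖ) : Subring (A.obj.obj Z) where
  carrier := {x | ∀ (W : EtOver X), IsAffine W.obj.left.left → ∀ k : W ⟶ Z.unop,
    IntE A φ W ((A.obj.map k.op).hom x)}
  mul_mem' := fun {a b} ha hb W hW k => by
    show IntE A φ W ((A.obj.map k.op).hom (a * b))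
    rw [map_mul]
    exact RingHom.IsIntegralElem.mul _ (ha W hW k) (hb W hW k)
  one_mem' := fun W hW k => by
    show IntE A φ W ((A.obj.map k.op).hom 1)
    rw [map_one]
    exact RingHom.isIntegralElem_one _
  add_mem' := fun {a b} ha hb W hW k => by
    show IntE A φ W ((A.obj.map k.op).hom (a + b))
    rw [map_add]
    exact RingHom.IsIntegralElem.add _ (ha W hW k) (hb W hW k)
  zero_mem' := fun W hW k => by
    show IntE A φ W ((A.obj.map k.op).hom 0)
    rw [map_zero]
    exact RingHom.isIntegralElem_zero _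
  neg_mem' := fun {a} ha W hW k => by
    show IntE A φ W ((A.obj.map k.op).hom (-a))
    rw [map_neg]
    exact RingHom.IsIntegralElem.neg _ (ha W hW k)

omit [(modOf A φ).IsQuasicoherent] in
theorem subRing_map {Z Z' : (EtOver X)ᵒᵖ} (f : Z ⟶ Z') {x : A.obj.obj Z} (hx : x ∈ subRing A φ Z) :
    (A.obj.map f).hom x ∈ subRing A φ Z' := fun W hW k => by
  show IntE A φ W ((A.obj.map k.op).hom ((A.obj.map f).hom x))
  rw [← RingHom.comp_apply, ← CommRingCat.hom_comp, ← A.obj.map_comp]
  exact hx W hW (k ≫ f.unop)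

/-- The presheaf of subrings. -/
def subPre : (EtOver X)ᵒᵖ ⥤ CommRingCat.{u + 1} where
  obj Z := CommRingCat.of (subRing A φ Z)
  map {Z Z'} f := CommRingCat.ofHom
    (((A.obj.map f).hom.comp (subRing A φ Z).subtype).codRestrict (subRing A φ Z') fun x => subRing_map A φ f x.2)
  map_id Z := CommRingCat.hom_ext (RingHom.ext fun x => Subtype.ext
    (congrArg (fun k => k.hom x.1) (A.obj.map_id Z)))
  map_comp f g := CommRingCat.hom_ext (RingHom.ext fun x => Subtype.ext
    (congrArg (fun k => k.hom x.1) (A.obj.map_comp f g)))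

/-- The underlying sets agree with those of the submodule sheaf. -/
def subIso : subPre A φ ⋙ forget CommRingCat.{u + 1} ≅
    (SubFromAffine.subMod (modOf A φ) (fam A φ)).toPresheafOfModules.presheaf ⋙ forget AddCommGrpCat.{u + 1} :=
  NatIso.ofComponents (fun Z => Equiv.toIso
    { toFun := fun x => ⟨x.1, x.2⟩
      invFun := fun x => ⟨x.1, x.2⟩
      left_inv := fun _ => rfl
      right_inv := fun _ => rfl }) fun _ => rfl

theorem isSheaf_subPre : Presheaf.IsSheaf (etTop X) (subPre A φ) := by
  rw [Presheaf.isSheaf_iff_isSheaf_forget (etTop X) _ (forget CommRingCat.{u + 1})]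
  refine (Presheaf.isSheaf_of_iso_iff (subIso A φ)).2 ?_
  exact (Presheaf.isSheaf_iff_isSheaf_forget (etTop X) _ (forget AddCommGrpCat.{u + 1})).1
    (SubFromAffine.isSheaf_subMod (isLocalFamily_fam A φ))

/-- The integral closure. -/
def closure : EtSh X CommRingCat.{u + 1} := ⟨subPre A φ, isSheaf_subPre A φ⟩

/-- The inclusion. -/
def closureι : closure A φ ⟶ A :=
  ObjectProperty.homMk { app := fun Z => CommRingCat.ofHom (subRing A φ Z).subtype, naturality := fun _ _ _ => rfl }

omit [(modOf A φ).IsQuasicoherent] in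
theorem structure_mem (Z : (EtOver X)ᵒᵖ) (c : (OEt X).obj.obj Z) : (φ.hom.app Z).hom c ∈ subRing A φ Z :=
  fun W _ k => by
    show IntE A φ W ((A.obj.map k.op).hom ((φ.hom.app Z).hom c))
    rw [← RingHom.comp_apply, ← CommRingCat.hom_comp,
      show φ.hom.app Z ≫ A.obj.map k.op = (OEt X).obj.map k.op ≫ φ.hom.app (op W) from (φ.hom.naturality k.op).symm]
    exact RingHom.isIntegralElem_map (str A φ W) (x := (((OEt X).obj.map k.op).hom c).down)

/-- The structure map. -/
def closureφ : OEt X ⟶ closure A φ :=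
  ObjectProperty.homMk
    { app := fun Z => CommRingCat.ofHom ((φ.hom.app Z).hom.codRestrict (subRing A φ Z) (structure_mem A φ Z))
      naturality := fun Z Z' f => CommRingCat.hom_ext (RingHom.ext fun x => Subtype.ext
        (congrArg (fun k => k.hom x) (φ.hom.naturality f))) }

theorem closureφ_ι : closureφ A φ ≫ closureι A φ = φ := rfl

omit [(modOf A φ).IsQuasicoherent] in
theorem injective_closureι [(modOf A φ).IsQuasicoherent] (E : EtOver X) :
    Function.Injective ((closureι A φ).hom.app (op E)) :=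
  fun _ _ e => Subtype.ext e

omit [(modOf A φ).IsQuasicoherent] in
theorem mem_subRing_iff (E : EtOver X) (hE : IsAffine E.obj.left.left) (x : A.obj.obj (op E)) :
    x ∈ subRing A φ (op E) ↔ IntE A φ E x := by
  refine ⟨fun h => ?_, fun h W _ k => IntE.res A φ k h⟩
  have := h E hE (𝟙 E)
  rw [op_id] at this
  erw [A.obj.map_id] at this
  exact this

omit [(modOf A φ).IsQuasicoherent] in
theorem intE_iff (E : EtOver X) (x : A.obj.obj (op E)) : IntE A φ E x ↔ (φ.hom.app (op E)).hom.IsIntegralElem x := by
  refine ⟨fun ⟨p, hp, hx⟩ => ⟨p.map (ULift.ringEquiv.{u, u + 1} (R := fnA E)).symm.toRingHom, hp.map _, ?_⟩,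
    fun ⟨p, hp, hx⟩ => ⟨p.map (ULift.ringEquiv.{u, u + 1} (R := fnA E)).toRingHom, hp.map _, ?_⟩⟩
  · rw [Polynomial.eval₂_map]
    exact hx
  · rw [Polynomial.eval₂_map]
    exact hx

theorem range_closureι (E : EtOver X) (hE : IsAffine E.obj.left.left) (x : A.obj.obj (op E)) :
    x ∈ Set.range ((closureι A φ).hom.app (op E)) ↔ (φ.hom.app (op E)).hom.IsIntegralElem x := by
  rw [← intE_iff, ← mem_subRing_iff A φ E hE]
  exact ⟨fun ⟨y, hy⟩ => hy ▸ y.2, fun h => ⟨⟨x, h⟩, rfl⟩⟩

theorem isQuasicoherent_closure : (modOf (closure A φ) (closureφ A φ)).IsQuasicoherent := by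
  haveI := SubFromAffine.isQuasicoherent_sub (isLocalFamily_fam A φ)
    (fun g hE hE' y hy => bc_fam A φ g hE hE' y hy)
  refine isQuasicoherent_of_hasBC fun E E' _ _ g => ?_
  let e : ∀ F : EtOver X, sectModEt (SubFromAffine.sub (isLocalFamily_fam A φ)) F ≃ₗ[fnA F]
      sectModEt (modOf (closure A φ) (closureφ A φ)) F := fun F =>
    { toFun := fun s => ⟨s.1, s.2⟩
      invFun := fun s => ⟨s.1, s.2⟩
      left_inv := fun _ => rfl
      right_inv := fun _ => rfl
      map_add' := fun _ _ => rfl
      map_smul' := fun _ _ => rfl }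
  exact isBC_of_equiv _ _ (e E) (e E') (fun _ => rfl) (isBC_resM _ g)

end

end Groth.ModEtQCoh.IntClosure
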